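import Mathlib
import Cfsg.Agent.H29.ON1.B
import Cfsg.Agent.H29.Tau
import Cfsg.Agent.H29.ONS.D0

set_option autoImplicit false
set_option maxRecDepth 100000
set_option Elab.async false
set_option linter.all false

namespace H29.ONS

noncomputable def ly : List Net := [x8, x10, x12, x14, x16, x18]
noncomputable def nx : ℕ → Net := nth Net.nil (ON1.nl ++ dbl ly)
def ivx : List ℕ := [0, 1, 2, 3, 4, 5, 7, 6, 9, 8, 11, 10, 13, 12, 15, 14, 17, 16, 19, 18]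
def defs : List (List ℕ) := [[1, 3, 4, 3, 6, 4, 2, 7, 3, 2, 4, 5],
 [8, 0, 9, 0],
 [9, 0, 9, 0, 8, 0, 8, 8, 0, 9, 0, 8, 8, 8, 0],
 [2, 1, 6, 3, 2, 0, 4, 6, 0, 5, 3, 2, 3, 2, 4],
 [15, 15, 0, 15, 15, 15, 15, 15],
 [15, 15, 0, 14, 0, 15, 15, 15]]
theorem hext : chkExt 8 defs ON1.ivl ivx = true := by decide +kernel
theorem hn : NetsOK 122760 nx := netsOK_ext ON1.hn (by decide +kernel)
theorem hiv : IvOK (sg nx) (ivOf ivx) := ivOK_ext ON1.hiv hext rfl rfl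
def E0 : List (List ℕ) := [[9, 1, 3, 4, 3, 6, 4, 2, 7, 3, 2, 4, 5], [11, 8, 0, 9, 0], [13, 9, 0, 9, 0, 8, 0, 8, 8, 0, 9, 0, 8, 8, 8, 0], [15, 2, 1, 6, 3, 2, 0, 4, 6, 0, 5, 3, 2, 3, 2, 4], [17, 15, 15, 0, 15, 15, 15, 15, 15], [19, 15, 15, 0, 14, 0, 15, 15, 15]]

end H29.ONS
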