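import Mathlib
import Cfsg.Agent.H29.ONS.B

set_option autoImplicit false
set_option maxRecDepth 100000
set_option Elab.async false
set_option linter.all false

namespace H29.ONS

theorem e0_0 : chkRelP 122760 17 nx (ivOf ivx) E0 0 = true := by decide +kernel

theorem e0_1 : chkRelP 122760 17 nx (ivOf ivx) E0 1 = true := by decide +kernel

theorem e0_2 : chkRelP 122760 17 nx (ivOf ivx) E0 2 = true := by decide +kernel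

theorem e0_3 : chkRelP 122760 17 nx (ivOf ivx) E0 3 = true := by decide +kernel

theorem e0_4 : chkRelP 122760 17 nx (ivOf ivx) E0 4 = true := by decide +kernel

theorem e0_5 : chkRelP 122760 17 nx (ivOf ivx) E0 5 = true := by decide +kernel

theorem e0_6 : chkRelP 122760 17 nx (ivOf ivx) E0 6 = true := by decide +kernel

theorem e0_7 : chkRelP 122760 17 nx (ivOf ivx) E0 7 = true := by decide +kernel

theorem e0_8 : chkRelP 122760 17 nx (ivOf ivx) E0 8 = true := by decide +kernel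

theorem e0_9 : chkRelP 122760 17 nx (ivOf ivx) E0 9 = true := by decide +kernel

theorem e0_10 : chkRelP 122760 17 nx (ivOf ivx) E0 10 = true := by decide +kernel

theorem e0_11 : chkRelP 122760 17 nx (ivOf ivx) E0 11 = true := by decide +kernel

theorem e0_12 : chkRelP 122760 17 nx (ivOf ivx) E0 12 = true := by decide +kernel

theorem e0_13 : chkRelP 122760 17 nx (ivOf ivx) E0 13 = true := by decide +kernel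

theorem e0_14 : chkRelP 122760 17 nx (ivOf ivx) E0 14 = true := by decide +kernel

theorem e0_15 : chkRelP 122760 17 nx (ivOf ivx) E0 15 = true := by decide +kernel

theorem e0_16 : chkRelP 122760 17 nx (ivOf ivx) E0 16 = true := by decide +kernel

theorem hz0_0 : chkRelP 122760 17 nx (ivOf ivx) [[10, 10, 10], [12, 12, 12, 12, 12, 12], [10, 12, 10, 12], [10, 12, 12, 11, 12, 12, 11, 12, 12, 11, 13, 13, 10, 13, 13], [11, 8, 0, 9, 0], [13, 9, 0, 9, 0, 8, 0, 8, 8, 0, 9, 0, 8, 8, 8, 0], [8, 8, 8, 8, 8, 8, 8, 8, 8, 8, 8, 8, 8, 8, 8], [0, 10, 0, 10], [8, 10, 13, 10, 8, 11, 12, 11], [0, 12, 8, 8, 12, 11, 12, 12, 12, 11, 12], [0, 8, 10, 9, 9, 9, 12, 11, 8, 13, 11], [16, 16, 16, 16, 16, 16, 16, 16], [18, 18, 18, 18, 18, 18], [16, 16, 16, 18, 17, 19, 19, 19], [16, 16, 19, 17, 19, 16, 19, 19], [17, 15, 15, 0, 15, 15, 15, 15,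 15], [19, 15, 15, 0, 14, 0, 15, 15, 15], [14, 14, 14, 14, 14, 14, 14, 14, 14, 14, 14], [0, 18, 0, 18], [0, 14, 0, 14, 18, 16, 19, 17, 14, 16, 14], [0, 16, 18, 16, 19], [0, 15, 17, 0, 16, 14, 19], [0, 14, 14, 16, 18, 16, 0, 14, 16, 18], [0, 14, 14, 19, 14, 16, 18]] 0 = true := by decide +kernel

theorem hz0_1 : chkRelP 122760 17 nx (ivOf ivx) [[10, 10, 10], [12, 12, 12, 12, 12, 12], [10, 12, 10, 12], [10, 12, 12, 11, 12, 12, 11, 12, 12, 11, 13, 13, 10, 13, 13], [11, 8, 0, 9, 0], [13, 9, 0, 9, 0, 8, 0, 8, 8, 0, 9, 0, 8, 8, 8, 0], [8, 8, 8, 8, 8, 8, 8, 8, 8, 8, 8, 8, 8, 8, 8], [0, 10, 0, 10], [8, 10, 13, 10, 8, 11, 12, 11], [0, 12, 8, 8, 12, 11, 12, 12, 12, 11, 12], [0, 8, 10, 9, 9, 9, 12, 11, 8, 13, 11], [16, 16, 16, 16, 16, 16, 16, 16], [18, 18, 18, 18, 18, 18], [16, 16, 16, 18, 17, 19, 19, 19], [16, 16, 19, 17, 19,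 16, 19, 19], [17, 15, 15, 0, 15, 15, 15, 15, 15], [19, 15, 15, 0, 14, 0, 15, 15, 15], [14, 14, 14, 14, 14, 14, 14, 14, 14, 14, 14], [0, 18, 0, 18], [0, 14, 0, 14, 18, 16, 19, 17, 14, 16, 14], [0, 16, 18, 16, 19], [0, 15, 17, 0, 16, 14, 19], [0, 14, 14, 16, 18, 16, 0, 14, 16, 18], [0, 14, 14, 19, 14, 16, 18]] 1 = true := by decide +kernel

theorem hz0_2 : chkRelP 122760 17 nx (ivOf ivx) [[10, 10, 10], [12, 12, 12, 12, 12, 12], [10, 12, 10, 12], [10, 12, 12, 11, 12, 12, 11, 12, 12, 11, 13, 13, 10, 13, 13], [11, 8, 0, 9, 0], [13, 9, 0, 9, 0, 8, 0, 8, 8, 0, 9, 0, 8, 8, 8, 0], [8, 8, 8, 8, 8, 8, 8, 8, 8, 8, 8, 8, 8, 8, 8], [0, 10, 0, 10], [8, 10, 13, 10, 8, 11, 12, 11], [0, 12, 8, 8, 12, 11, 12, 12, 12, 11, 12], [0, 8, 10, 9, 9, 9, 12, 11, 8, 13, 11], [16, 16, 16, 16, 16, 16, 16, 16], [18, 18, 18, 18, 18, 18], [16, 16,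 16, 18, 17, 19, 19, 19], [16, 16, 19, 17, 19, 16, 19, 19], [17, 15, 15, 0, 15, 15, 15, 15, 15], [19, 15, 15, 0, 14, 0, 15, 15, 15], [14, 14, 14, 14, 14, 14, 14, 14, 14, 14, 14], [0, 18, 0, 18], [0, 14, 0, 14, 18, 16, 19, 17, 14, 16, 14], [0, 16, 18, 16, 19], [0, 15, 17, 0, 16, 14, 19], [0, 14, 14, 16, 18, 16, 0, 14, 16, 18], [0, 14, 14, 19, 14, 16, 18]] 2 = true := by decide +kernel

theorem hz0_3 : chkRelP 122760 17 nx (ivOf ivx) [[10, 10, 10], [12, 12, 12, 12, 12, 12], [10, 12, 10, 12], [10, 12, 12, 11, 12, 12, 11, 12, 12, 11, 13, 13, 10, 13, 13], [11, 8, 0, 9, 0], [13, 9, 0, 9, 0, 8, 0, 8, 8, 0, 9, 0, 8, 8, 8, 0], [8, 8, 8, 8, 8, 8, 8, 8, 8, 8, 8, 8, 8, 8, 8], [0, 10, 0, 10], [8, 10, 13, 10, 8, 11, 12, 11], [0, 12, 8, 8, 12, 11, 12, 12, 12, 11, 12], [0, 8, 10, 9, 9, 9, 12, 11, 8, 13, 11], [16, 16, 16, 16, 16, 16,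 16, 16], [18, 18, 18, 18, 18, 18], [16, 16, 16, 18, 17, 19, 19, 19], [16, 16, 19, 17, 19, 16, 19, 19], [17, 15, 15, 0, 15, 15, 15, 15, 15], [19, 15, 15, 0, 14, 0, 15, 15, 15], [14, 14, 14, 14, 14, 14, 14, 14, 14, 14, 14], [0, 18, 0, 18], [0, 14, 0, 14, 18, 16, 19, 17, 14, 16, 14], [0, 16, 18, 16, 19], [0, 15, 17, 0, 16, 14, 19], [0, 14, 14, 16, 18, 16, 0, 14, 16, 18], [0, 14, 14, 19, 14, 16, 18]] 3 = true := by decide +kernel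

theorem hz0_4 : chkRelP 122760 17 nx (ivOf ivx) [[10, 10, 10], [12, 12, 12, 12, 12, 12], [10, 12, 10, 12], [10, 12, 12, 11, 12, 12, 11, 12, 12, 11, 13, 13, 10, 13, 13], [11, 8, 0, 9, 0], [13, 9, 0, 9, 0, 8, 0, 8, 8, 0, 9, 0, 8, 8, 8, 0], [8, 8, 8, 8, 8, 8, 8, 8, 8, 8, 8, 8, 8, 8, 8], [0, 10, 0, 10], [8, 10, 13, 10, 8, 11, 12, 11], [0, 12, 8, 8, 12, 11, 12, 12, 12, 11, 12], [0, 8, 10, 9, 9, 9, 12, 11, 8, 13, 11], [16, 16, 16, 16, 16, 16, 16, 16], [18, 18, 18, 18, 18, 18], [16, 16, 16, 18, 17, 19, 19, 19], [16, 16, 19, 17, 19, 16, 19, 19], [17, 15, 15, 0, 15, 15, 15, 15, 15], [19, 15, 15, 0, 14, 0, 15, 15, 15], [14, 14, 14, 14, 14, 14, 14, 14, 14, 14, 14], [0, 18, 0, 18], [0, 14, 0, 14, 18, 16, 19, 17, 14, 16, 14], [0, 16, 18, 16, 19], [0, 15, 17, 0, 16, 14, 19], [0, 14, 14, 16, 18, 16, 0, 14, 16, 18], [0, 14, 14,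 19, 14, 16, 18]] 4 = true := by decide +kernel

theorem hz0_5 : chkRelP 122760 17 nx (ivOf ivx) [[10, 10, 10], [12, 12, 12, 12, 12, 12], [10, 12, 10, 12], [10, 12, 12, 11, 12, 12, 11, 12, 12, 11, 13, 13, 10, 13, 13], [11, 8, 0, 9, 0], [13, 9, 0, 9, 0, 8, 0, 8, 8, 0, 9, 0, 8, 8, 8, 0], [8, 8, 8, 8, 8, 8, 8, 8, 8, 8, 8, 8, 8, 8, 8], [0, 10, 0, 10], [8, 10, 13, 10, 8, 11, 12, 11], [0, 12, 8, 8, 12, 11, 12, 12, 12, 11, 12], [0, 8, 10, 9, 9, 9, 12, 11, 8, 13, 11], [16, 16, 16, 16, 16, 16, 16, 16], [18, 18, 18, 18, 18, 18], [16, 16, 16, 18, 17, 19, 19, 19], [16, 16, 19, 17, 19, 16, 19, 19], [17, 15, 15, 0, 15, 15, 15, 15, 15], [19, 15, 15, 0, 14, 0, 15, 15, 15], [14, 14, 14, 14, 14, 14, 14, 14, 14, 14, 14], [0, 18, 0, 18], [0, 14, 0, 14, 18, 16, 19, 17, 14, 16, 14], [0, 16, 18, 16, 19], [0, 15, 17, 0, 16, 14, 19], [0, 14,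 14, 16, 18, 16, 0, 14, 16, 18], [0, 14, 14, 19, 14, 16, 18]] 5 = true := by decide +kernel

theorem hz0_6 : chkRelP 122760 17 nx (ivOf ivx) [[10, 10, 10], [12, 12, 12, 12, 12, 12], [10, 12, 10, 12], [10, 12, 12, 11, 12, 12, 11, 12, 12, 11, 13, 13, 10, 13, 13], [11, 8, 0, 9, 0], [13, 9, 0, 9, 0, 8, 0, 8, 8, 0, 9, 0, 8, 8, 8, 0], [8, 8, 8, 8, 8, 8, 8, 8, 8, 8, 8, 8, 8, 8, 8], [0, 10, 0, 10], [8, 10, 13, 10, 8, 11, 12, 11], [0, 12, 8, 8, 12, 11, 12, 12, 12, 11, 12], [0, 8, 10, 9, 9, 9, 12, 11, 8, 13, 11], [16, 16, 16, 16, 16, 16, 16, 16], [18, 18, 18, 18, 18, 18], [16, 16, 16, 18, 17, 19, 19, 19], [16, 16, 19, 17, 19, 16, 19, 19], [17, 15, 15, 0, 15, 15, 15, 15, 15], [19, 15, 15, 0, 14, 0, 15, 15, 15], [14, 14, 14, 14, 14, 14, 14, 14, 14, 14, 14], [0, 18, 0, 18], [0, 14, 0, 14, 18, 16, 19, 17, 14, 16, 14], [0, 16, 18,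 16, 19], [0, 15, 17, 0, 16, 14, 19], [0, 14, 14, 16, 18, 16, 0, 14, 16, 18], [0, 14, 14, 19, 14, 16, 18]] 6 = true := by decide +kernel

theorem hz0_7 : chkRelP 122760 17 nx (ivOf ivx) [[10, 10, 10], [12, 12, 12, 12, 12, 12], [10, 12, 10, 12], [10, 12, 12, 11, 12, 12, 11, 12, 12, 11, 13, 13, 10, 13, 13], [11, 8, 0, 9, 0], [13, 9, 0, 9, 0, 8, 0, 8, 8, 0, 9, 0, 8, 8, 8, 0], [8, 8, 8, 8, 8, 8, 8, 8, 8, 8, 8, 8, 8, 8, 8], [0, 10, 0, 10], [8, 10, 13, 10, 8, 11, 12, 11], [0, 12, 8, 8, 12, 11, 12, 12, 12, 11, 12], [0, 8, 10, 9, 9, 9, 12, 11, 8, 13, 11], [16, 16, 16, 16, 16, 16, 16, 16], [18, 18, 18, 18, 18, 18], [16, 16, 16, 18, 17, 19, 19, 19], [16, 16, 19, 17, 19, 16, 19, 19], [17, 15, 15, 0, 15, 15, 15, 15, 15], [19, 15, 15, 0, 14, 0, 15, 15, 15], [14, 14, 14, 14, 14, 14, 14, 14, 14, 14, 14], [0, 18, 0, 18], [0, 14, 0,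 14, 18, 16, 19, 17, 14, 16, 14], [0, 16, 18, 16, 19], [0, 15, 17, 0, 16, 14, 19], [0, 14, 14, 16, 18, 16, 0, 14, 16, 18], [0, 14, 14, 19, 14, 16, 18]] 7 = true := by decide +kernel

theorem hz0_8 : chkRelP 122760 17 nx (ivOf ivx) [[10, 10, 10], [12, 12, 12, 12, 12, 12], [10, 12, 10, 12], [10, 12, 12, 11, 12, 12, 11, 12, 12, 11, 13, 13, 10, 13, 13], [11, 8, 0, 9, 0], [13, 9, 0, 9, 0, 8, 0, 8, 8, 0, 9, 0, 8, 8, 8, 0], [8, 8, 8, 8, 8, 8, 8, 8, 8, 8, 8, 8, 8, 8, 8], [0, 10, 0, 10], [8, 10, 13, 10, 8, 11, 12, 11], [0, 12, 8, 8, 12, 11, 12, 12, 12, 11, 12], [0, 8, 10, 9, 9, 9, 12, 11, 8, 13, 11], [16, 16, 16, 16, 16, 16, 16, 16], [18, 18, 18, 18, 18, 18], [16, 16, 16, 18, 17, 19, 19, 19], [16, 16, 19, 17, 19, 16, 19, 19], [17, 15, 15, 0, 15, 15, 15, 15, 15], [19, 15, 15, 0, 14, 0, 15, 15, 15], [14, 14, 14, 14, 14, 14, 14,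 14, 14, 14, 14], [0, 18, 0, 18], [0, 14, 0, 14, 18, 16, 19, 17, 14, 16, 14], [0, 16, 18, 16, 19], [0, 15, 17, 0, 16, 14, 19], [0, 14, 14, 16, 18, 16, 0, 14, 16, 18], [0, 14, 14, 19, 14, 16, 18]] 8 = true := by decide +kernel

theorem hz0_9 : chkRelP 122760 17 nx (ivOf ivx) [[10, 10, 10], [12, 12, 12, 12, 12, 12], [10, 12, 10, 12], [10, 12, 12, 11, 12, 12, 11, 12, 12, 11, 13, 13, 10, 13, 13], [11, 8, 0, 9, 0], [13, 9, 0, 9, 0, 8, 0, 8, 8, 0, 9, 0, 8, 8, 8, 0], [8, 8, 8, 8, 8, 8, 8, 8, 8, 8, 8, 8, 8, 8, 8], [0, 10, 0, 10], [8, 10, 13, 10, 8, 11, 12, 11], [0, 12, 8, 8, 12, 11, 12, 12, 12, 11, 12], [0, 8, 10, 9, 9, 9, 12, 11, 8, 13, 11], [16, 16, 16, 16, 16, 16, 16, 16], [18, 18, 18, 18, 18, 18], [16, 16, 16, 18, 17, 19, 19, 19], [16, 16, 19, 17, 19, 16, 19, 19], [17, 15, 15, 0, 15, 15, 15, 15, 15], [19, 15, 15, 0, 14,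 0, 15, 15, 15], [14, 14, 14, 14, 14, 14, 14, 14, 14, 14, 14], [0, 18, 0, 18], [0, 14, 0, 14, 18, 16, 19, 17, 14, 16, 14], [0, 16, 18, 16, 19], [0, 15, 17, 0, 16, 14, 19], [0, 14, 14, 16, 18, 16, 0, 14, 16, 18], [0, 14, 14, 19, 14, 16, 18]] 9 = true := by decide +kernel

theorem hz0_10 : chkRelP 122760 17 nx (ivOf ivx) [[10, 10, 10], [12, 12, 12, 12, 12, 12], [10, 12, 10, 12], [10, 12, 12, 11, 12, 12, 11, 12, 12, 11, 13, 13, 10, 13, 13], [11, 8, 0, 9, 0], [13, 9, 0, 9, 0, 8, 0, 8, 8, 0, 9, 0, 8, 8, 8, 0], [8, 8, 8, 8, 8, 8, 8, 8, 8, 8, 8, 8, 8, 8, 8], [0, 10, 0, 10], [8, 10, 13, 10, 8, 11, 12, 11], [0, 12, 8, 8, 12, 11, 12, 12, 12, 11, 12], [0, 8, 10, 9, 9, 9, 12, 11, 8, 13, 11], [16, 16, 16, 16, 16, 16, 16, 16], [18, 18, 18, 18, 18, 18], [16, 16, 16, 18, 17, 19, 19, 19], [16, 16, 19, 17, 19, 16, 19, 19], [17, 15,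 15, 0, 15, 15, 15, 15, 15], [19, 15, 15, 0, 14, 0, 15, 15, 15], [14, 14, 14, 14, 14, 14, 14, 14, 14, 14, 14], [0, 18, 0, 18], [0, 14, 0, 14, 18, 16, 19, 17, 14, 16, 14], [0, 16, 18, 16, 19], [0, 15, 17, 0, 16, 14, 19], [0, 14, 14, 16, 18, 16, 0, 14, 16, 18], [0, 14, 14, 19, 14, 16, 18]] 10 = true := by decide +kernel

theorem hz0_11 : chkRelP 122760 17 nx (ivOf ivx) [[10, 10, 10], [12, 12, 12, 12, 12, 12], [10, 12, 10, 12], [10, 12, 12, 11, 12, 12, 11, 12, 12, 11, 13, 13, 10, 13, 13], [11, 8, 0, 9, 0], [13, 9, 0, 9, 0, 8, 0, 8, 8, 0, 9, 0, 8, 8, 8, 0], [8, 8, 8, 8, 8, 8, 8, 8, 8, 8, 8, 8, 8, 8, 8], [0, 10, 0, 10], [8, 10, 13, 10, 8, 11, 12, 11], [0, 12, 8, 8, 12, 11, 12, 12, 12, 11, 12], [0, 8, 10, 9, 9, 9, 12, 11, 8, 13, 11], [16, 16, 16, 16, 16, 16, 16, 16], [18, 18, 18, 18, 18, 18], [16, 16, 16, 18, 17, 19, 19,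 19], [16, 16, 19, 17, 19, 16, 19, 19], [17, 15, 15, 0, 15, 15, 15, 15, 15], [19, 15, 15, 0, 14, 0, 15, 15, 15], [14, 14, 14, 14, 14, 14, 14, 14, 14, 14, 14], [0, 18, 0, 18], [0, 14, 0, 14, 18, 16, 19, 17, 14, 16, 14], [0, 16, 18, 16, 19], [0, 15, 17, 0, 16, 14, 19], [0, 14, 14, 16, 18, 16, 0, 14, 16, 18], [0, 14, 14, 19, 14, 16, 18]] 11 = true := by decide +kernel

theorem hz0_12 : chkRelP 122760 17 nx (ivOf ivx) [[10, 10, 10], [12, 12, 12, 12, 12, 12], [10, 12, 10, 12], [10, 12, 12, 11, 12, 12, 11, 12, 12, 11, 13, 13, 10, 13, 13], [11, 8, 0, 9, 0], [13, 9, 0, 9, 0, 8, 0, 8, 8, 0, 9, 0, 8, 8, 8, 0], [8, 8, 8, 8, 8, 8, 8, 8, 8, 8, 8, 8, 8, 8, 8], [0, 10, 0, 10], [8, 10, 13, 10, 8, 11, 12, 11], [0, 12, 8, 8, 12, 11, 12, 12, 12, 11, 12], [0, 8, 10, 9, 9, 9, 12, 11, 8, 13, 11], [16, 16, 16, 16, 16, 16, 16, 16], [18, 18,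 18, 18, 18, 18], [16, 16, 16, 18, 17, 19, 19, 19], [16, 16, 19, 17, 19, 16, 19, 19], [17, 15, 15, 0, 15, 15, 15, 15, 15], [19, 15, 15, 0, 14, 0, 15, 15, 15], [14, 14, 14, 14, 14, 14, 14, 14, 14, 14, 14], [0, 18, 0, 18], [0, 14, 0, 14, 18, 16, 19, 17, 14, 16, 14], [0, 16, 18, 16, 19], [0, 15, 17, 0, 16, 14, 19], [0, 14, 14, 16, 18, 16, 0, 14, 16, 18], [0, 14, 14, 19, 14, 16, 18]] 12 = true := by decide +kernel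

theorem hz0_13 : chkRelP 122760 17 nx (ivOf ivx) [[10, 10, 10], [12, 12, 12, 12, 12, 12], [10, 12, 10, 12], [10, 12, 12, 11, 12, 12, 11, 12, 12, 11, 13, 13, 10, 13, 13], [11, 8, 0, 9, 0], [13, 9, 0, 9, 0, 8, 0, 8, 8, 0, 9, 0, 8, 8, 8, 0], [8, 8, 8, 8, 8, 8, 8, 8, 8, 8, 8, 8, 8, 8, 8], [0, 10, 0, 10], [8, 10, 13, 10, 8, 11, 12, 11], [0, 12, 8, 8, 12, 11, 12, 12, 12, 11, 12], [0, 8, 10, 9, 9, 9, 12, 11, 8, 13, 11], [16, 16, 16, 16, 16, 16, 16, 16], [18, 18, 18, 18, 18, 18], [16, 16, 16, 18, 17, 19, 19, 19], [16, 16, 19, 17, 19, 16, 19, 19], [17, 15, 15, 0, 15, 15, 15, 15, 15], [19, 15, 15, 0, 14, 0, 15, 15, 15], [14, 14, 14, 14, 14, 14, 14, 14, 14, 14, 14], [0, 18, 0, 18], [0, 14, 0, 14, 18, 16, 19, 17, 14, 16, 14], [0, 16, 18, 16, 19], [0, 15, 17, 0, 16, 14, 19], [0, 14, 14, 16, 18, 16, 0, 14, 16, 18], [0, 14, 14,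 19, 14, 16, 18]] 13 = true := by decide +kernel

theorem hz0_14 : chkRelP 122760 17 nx (ivOf ivx) [[10, 10, 10], [12, 12, 12, 12, 12, 12], [10, 12, 10, 12], [10, 12, 12, 11, 12, 12, 11, 12, 12, 11, 13, 13, 10, 13, 13], [11, 8, 0, 9, 0], [13, 9, 0, 9, 0, 8, 0, 8, 8, 0, 9, 0, 8, 8, 8, 0], [8, 8, 8, 8, 8, 8, 8, 8, 8, 8, 8, 8, 8, 8, 8], [0, 10, 0, 10], [8, 10, 13, 10, 8, 11, 12, 11], [0, 12, 8, 8, 12, 11, 12, 12, 12, 11, 12], [0, 8, 10, 9, 9, 9, 12, 11, 8, 13, 11], [16, 16, 16, 16, 16, 16, 16, 16], [18, 18, 18, 18, 18, 18], [16, 16, 16, 18, 17, 19, 19, 19], [16, 16, 19, 17, 19, 16, 19, 19], [17, 15, 15, 0, 15, 15, 15, 15, 15], [19, 15, 15, 0, 14, 0, 15, 15, 15], [14, 14, 14, 14, 14, 14, 14, 14, 14, 14, 14], [0, 18, 0, 18], [0, 14, 0, 14, 18, 16, 19, 17, 14, 16, 14], [0, 16, 18, 16, 19], [0, 15, 17, 0, 16, 14, 19], [0,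 14, 14, 16, 18, 16, 0, 14, 16, 18], [0, 14, 14, 19, 14, 16, 18]] 14 = true := by decide +kernel

theorem hz0_15 : chkRelP 122760 17 nx (ivOf ivx) [[10, 10, 10], [12, 12, 12, 12, 12, 12], [10, 12, 10, 12], [10, 12, 12, 11, 12, 12, 11, 12, 12, 11, 13, 13, 10, 13, 13], [11, 8, 0, 9, 0], [13, 9, 0, 9, 0, 8, 0, 8, 8, 0, 9, 0, 8, 8, 8, 0], [8, 8, 8, 8, 8, 8, 8, 8, 8, 8, 8, 8, 8, 8, 8], [0, 10, 0, 10], [8, 10, 13, 10, 8, 11, 12, 11], [0, 12, 8, 8, 12, 11, 12, 12, 12, 11, 12], [0, 8, 10, 9, 9, 9, 12, 11, 8, 13, 11], [16, 16, 16, 16, 16, 16, 16, 16], [18, 18, 18, 18, 18, 18], [16, 16, 16, 18, 17, 19, 19, 19], [16, 16, 19, 17, 19, 16, 19, 19], [17, 15, 15, 0, 15, 15, 15, 15, 15], [19, 15, 15, 0, 14, 0, 15, 15, 15], [14, 14, 14, 14, 14, 14, 14, 14, 14, 14, 14], [0, 18, 0, 18], [0, 14, 0, 14, 18, 16, 19, 17, 14, 16, 14], [0,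 16, 18, 16, 19], [0, 15, 17, 0, 16, 14, 19], [0, 14, 14, 16, 18, 16, 0, 14, 16, 18], [0, 14, 14, 19, 14, 16, 18]] 15 = true := by decide +kernel

theorem hz0_16 : chkRelP 122760 17 nx (ivOf ivx) [[10, 10, 10], [12, 12, 12, 12, 12, 12], [10, 12, 10, 12], [10, 12, 12, 11, 12, 12, 11, 12, 12, 11, 13, 13, 10, 13, 13], [11, 8, 0, 9, 0], [13, 9, 0, 9, 0, 8, 0, 8, 8, 0, 9, 0, 8, 8, 8, 0], [8, 8, 8, 8, 8, 8, 8, 8, 8, 8, 8, 8, 8, 8, 8], [0, 10, 0, 10], [8, 10, 13, 10, 8, 11, 12, 11], [0, 12, 8, 8, 12, 11, 12, 12, 12, 11, 12], [0, 8, 10, 9, 9, 9, 12, 11, 8, 13, 11], [16, 16, 16, 16, 16, 16, 16, 16], [18, 18, 18, 18, 18, 18], [16, 16, 16, 18, 17, 19, 19, 19], [16, 16, 19, 17, 19, 16, 19, 19], [17, 15, 15, 0, 15, 15, 15, 15, 15], [19, 15, 15, 0, 14, 0, 15, 15, 15], [14, 14, 14, 14, 14, 14, 14, 14, 14, 14, 14], [0, 18, 0, 18],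 [0, 14, 0, 14, 18, 16, 19, 17, 14, 16, 14], [0, 16, 18, 16, 19], [0, 15, 17, 0, 16, 14, 19], [0, 14, 14, 16, 18, 16, 0, 14, 16, 18], [0, 14, 14, 19, 14, 16, 18]] 16 = true := by decide +kernel

end H29.ONS
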